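import Groth.Agent.Lib.GrpExt19.ConstRigid
import Groth.Agent.Lib.GrpSchField.Open
import Groth.Agent.Lib.GrpSchField.Components
import Groth.Agent.Lib.Neutral.OpenPart
import Groth.Agent.Lib.Neutral.Constructible
import Groth.Agent.Lib.Induce27.Neutral
import Groth.Agent.Lib.Homog14.Sweep
import Groth.Agent.Lib.HomScheme.Const
import Mathlib.AlgebraicGeometry.Morphisms.FlatDescent
import Mathlib.AlgebraicGeometry.Morphisms.LocalFlatDescent

/-!
Extensions of a connected group scheme over a field by a torsion free constant group split uniquely.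
-/

set_option backward.isDefEq.respectTransparency false
set_option linter.style.haveILetI false
set_option maxHeartbeats 800000

universe u

open CategoryTheory CategoryTheory.Limits MonoidalCategory CartesianMonoidalCategory AlgebraicGeometry
open scoped MonObj

namespace GrothLib.GrpExt19

section Pieces

variable {S : Scheme.{u}} {Z : Type u}

theorem mem_piece_unique {m n : Z} {x : (TwC.const S Z).left}
    (h₁ : x ∈ (Sigma.ι (fun _ : Z => S) m).opensRange) (h₂ : x ∈ (Sigma.ι (fun _ : Z => S) n).opensRange) :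
    m = n := by
  by_contra hne
  exact (disjoint_opensRange_sigmaι (fun _ : Z => S) m n hne).le_bot (x := x) ⟨h₁, h₂⟩

theorem eq_of_preconnected {T : Scheme.{u}} [PreconnectedSpace T] (a : T ⟶ (TwC.const S Z).left) (i : Z)
    (t : T) (ht : a t ∈ (Sigma.ι (fun _ : Z => S) i).opensRange) (x : T) :
    a x ∈ (Sigma.ι (fun _ : Z => S) i).opensRange := by
  let U : Z → T.Opens := fun m => a ⁻¹ᵁ (Sigma.ι (fun _ : Z => S) m).opensRange
  have hU : ∀ y, ∃ m, y ∈ U m := fun y => by
    obtain ⟨m, w, hw⟩ := (sigmaOpenCover (fun _ : Z => S)).exists_eq (a y)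
    exact ⟨m, w, hw⟩
  have hc : IsClosed (U i : Set T) := by
    refine isOpen_compl_iff.1 (isOpen_iff_forall_mem_open.2 fun y hy => ?_)
    obtain ⟨m, hm⟩ := hU y
    exact ⟨U m, fun z hz hz' => hy (mem_piece_unique hz hz' ▸ hm), (U m).2, hm⟩
  have h := IsClopen.eq_univ ⟨hc, (U i).2⟩ ⟨t, ht⟩
  exact (h.symm ▸ Set.mem_univ x : x ∈ (U i : Set T))

end Pieces

section Field

variable {k : Type u} [Field k] {Z : Type u} [Group Z] {G : Over (Spec (CommRingCat.of k))} [GrpObj G]
  (eG : G ≅ TwC.const (Spec (CommRingCat.of k)) Z)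

/-- The rational point of index `n`. -/
noncomputable def gp (n : Z) : 𝟙_ (Over (Spec (CommRingCat.of k))) ⟶ G :=
  TwC.pt (Spec (CommRingCat.of k)) Z n ≫ eG.inv

/-- A morphism to a constant group is trivial if it lands in the piece of the unit. -/
theorem eq_one_of_mem (hG : TwC.IsConstGrp Z G eG) {T : Over (Spec (CommRingCat.of k))} (g : T ⟶ G)
    (h : ∀ t, (g ≫ eG.hom).left t ∈ (Sigma.ι (fun _ : Z => Spec (CommRingCat.of k)) 1).opensRange) : g = 1 := by
  have h' := HomScheme.eq_of_mem_piece _ Z (g ≫ eG.hom).left 1 h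
  have e : g ≫ eG.hom = toUnit T ≫ TwC.pt (Spec (CommRingCat.of k)) Z 1 := by
    apply Over.OverMorphism.ext
    rw [toUnit_pt_left]
    exact h'.trans (congrArg (fun q => q ≫ Sigma.ι (fun _ : Z => Spec (CommRingCat.of k)) (1 : Z))
      (Over.w (g ≫ eG.hom)))
  have e2 : g = toUnit T ≫ TwC.pt (Spec (CommRingCat.of k)) Z 1 ≫ eG.inv := by
    rw [← Category.assoc, ← e]; simp
  rw [e2, gp_one G eG hG, MonObj.comp_one]

theorem gp_index (hG : TwC.IsConstGrp Z G eG) {T : Over (Spec (CommRingCat.of k))} [Subsingleton T.left]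
    [Nonempty T.left] (g : T ⟶ G) : ∃ n, g = toUnit T ≫ gp eG n := by
  obtain ⟨n, hn, -⟩ := existsUnique_index (g ≫ eG.hom)
  refine ⟨n, ?_⟩
  rw [gp, ← Category.assoc, ← hn]
  simp

variable {P E : Over (Spec (CommRingCat.of k))} [GrpObj P] [GrpObj E] {u : G ⟶ E} {v : E ⟶ P}

theorem ker_points (hex : NonAbH1.IsExactSeq Scheme.fppfPrecoverage u v)
    {T : Over (Spec (CommRingCat.of k))} (x x' : T ⟶ E) (h : x ≫ v = x' ≫ v) :
    ∃! g : T ⟶ G, x' = x * (g ≫ u) := by
  obtain ⟨hu, hv, huv, hsq, -⟩ := hex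
  have key : ∀ g : T ⟶ G, lift x g ≫ (E ◁ u) ≫ μ[E] = x * (g ≫ u) := fun g => by
    rw [lift_whiskerLeft_assoc, ← Hom.mul_def]
  obtain ⟨l, hl₁, hl₂⟩ : ∃ l : T ⟶ E ⊗ G, l ≫ fst E G = x ∧ l ≫ (E ◁ u) ≫ μ[E] = x' :=
    ⟨hsq.lift x x' h, hsq.lift_fst _ _ _, hsq.lift_snd _ _ _⟩
  have hl : l = lift x (l ≫ snd E G) := by
    apply CartesianMonoidalCategory.hom_ext <;> simp [hl₁]
  refine ⟨l ≫ snd E G, ?_, fun g hg => ?_⟩
  · show x' = x * ((l ≫ snd E G) ≫ u)
    rw [← key, ← hl, hl₂]
  · have : lift x g = l := hsq.hom_ext (by rw [lift_fst, hl₁]) (by rw [key, hl₂]; exact hg.symm)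
    rw [← this, lift_snd]

variable (u) in
/-- Right translation by the point of index `n`. -/
noncomputable def rho (n : Z) : E ⟶ E := 𝟙 E * ((toUnit E ≫ gp eG n) ≫ u)

theorem rho_point {T : Over (Spec (CommRingCat.of k))} (x : T ⟶ E) (n : Z) :
    x ≫ rho eG u n = x * ((toUnit T ≫ gp eG n) ≫ u) := by
  simp [rho, MonObj.comp_mul]

theorem rho_rho (hG : TwC.IsConstGrp Z G eG) [IsMonHom u] (m n : Z) :
    rho eG u m ≫ rho eG u n = rho eG u (m * n) := by
  rw [rho_point, rho, rho, _root_.mul_assoc, ← MonObj.mul_comp]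
  congr 2
  simp only [gp]
  rw [← MonObj.comp_mul, hG]

theorem rho_one (hG : TwC.IsConstGrp Z G eG) [IsMonHom u] : rho eG u (1 : Z) = 𝟙 E := by
  rw [rho, gp, gp_one G eG hG, MonObj.comp_one, MonObj.one_comp, _root_.mul_one]

theorem rho_isOpenImmersion (hG : TwC.IsConstGrp Z G eG) [IsMonHom u] (n : Z) :
    IsOpenImmersion (rho eG u n).left := by
  haveI : IsIso (rho eG u n) := ⟨rho eG u n⁻¹,
    by rw [rho_rho eG hG, mul_inv_cancel, rho_one eG hG],
    by rw [rho_rho eG hG, inv_mul_cancel, rho_one eG hG]⟩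
  haveI : IsIso (rho eG u n).left := inferInstanceAs (IsIso ((Over.forget _).map (rho eG u n)))
  infer_instance

/-- Points with the same image differ by a translation. -/
theorem exists_rho (hG : TwC.IsConstGrp Z G eG) (hex : NonAbH1.IsExactSeq Scheme.fppfPrecoverage u v)
    (x y : E.left) (h : v.left x = v.left y) : ∃ n, (rho eG u n).left x = y := by
  have hsq := hex.2.2.2.1.map (Over.forget (Spec (CommRingCat.of k)))
  obtain ⟨q, hq₁, hq₂⟩ : ∃ q : ↥(E ⊗ G).left, (fst E G).left q = x ∧ ((E ◁ u) ≫ μ[E]).left q = y := by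
    obtain ⟨p, hp₁, hp₂⟩ := Scheme.Pullback.exists_preimage_pullback (f := v.left) (g := v.left) x y h
    refine ⟨hsq.isoPullback.inv p, ?_, ?_⟩
    · exact (congrArg (fun m : pullback v.left v.left ⟶ E.left => m p) hsq.isoPullback_inv_fst).trans hp₁
    · exact (congrArg (fun m : pullback v.left v.left ⟶ E.left => m p) hsq.isoPullback_inv_snd).trans hp₂
  let T : Over (Spec (CommRingCat.of k)) := Over.mk ((E ⊗ G).left.fromSpecResidueField q ≫ (E ⊗ G).hom)
  let t : T ⟶ E ⊗ G := Over.homMk ((E ⊗ G).left.fromSpecResidueField q) rfl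
  haveI : Subsingleton T.left := inferInstanceAs (Subsingleton (Spec ((E ⊗ G).left.residueField q)))
  haveI : Nonempty T.left := inferInstanceAs (Nonempty (Spec ((E ⊗ G).left.residueField q)))
  obtain ⟨p⟩ := ‹Nonempty T.left›
  have htq : t.left p = q := Scheme.fromSpecResidueField_apply q p
  obtain ⟨n, hn⟩ := gp_index eG hG (t ≫ snd E G)
  refine ⟨n, ?_⟩
  have e : (t ≫ fst E G) ≫ rho eG u n = t ≫ (E ◁ u) ≫ μ[E] := by
    rw [rho_point, ← hn, ← lift_comp_fst_snd t, lift_whiskerLeft_assoc, ← Hom.mul_def]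
    simp
  have := congrArg (fun m : T ⟶ E => m.left p) e
  simp only [Over.comp_left, Scheme.Hom.comp_apply, htq, hq₁] at this
  rw [this]
  exact hq₂

theorem isOpen_image (hG : TwC.IsConstGrp Z G eG) (hex : NonAbH1.IsExactSeq Scheme.fppfPrecoverage u v)
    {W : Set E.left} (hW : IsOpen W) : IsOpen (v.left '' W) := by
  haveI := hex.1
  haveI := hex.2.1
  obtain ⟨R, hR, hsec⟩ := hex.2.2.2.2
  rw [isOpen_iff_forall_mem_open]
  rintro _ ⟨w, hw, rfl⟩
  obtain ⟨hR1, hR2⟩ := hR
  obtain ⟨Y, f, hf, z, hz⟩ := (Presieve.mem_comap_jointlySurjectivePrecoverage_iff Scheme.forget).1 hR1 (v.left w)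
  have hf' := hR2 hf
  obtain ⟨s, hs⟩ := hsec f hf
  haveI : Flat f := hf'.1
  haveI : LocallyOfFinitePresentation f := hf'.2
  have hs' : s ≫ v.left = f := hs
  have hvn : ∀ (n : Z) (e : E.left), v.left ((rho eG u n).left e) = v.left e := fun n e => by
    have h1 : rho eG u n ≫ v = v := by
      rw [rho, MonObj.mul_comp, Category.id_comp, Category.assoc, hex.2.2.1, MonObj.comp_one, _root_.mul_one]
    exact congrArg (fun m : E ⟶ P => m.left e) h1
  refine ⟨f '' (⋃ n : Z, ((s ≫ (rho eG u n).left) ⁻¹' W)), ?_, f.isOpenMap _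
    (isOpen_iUnion fun n => hW.preimage (s ≫ (rho eG u n).left).continuous), ?_⟩
  · rintro _ ⟨y, hy, rfl⟩
    obtain ⟨n, hn⟩ := Set.mem_iUnion.1 hy
    exact ⟨_, hn, (hvn n (s y)).trans (congrArg (fun m : Y ⟶ P.left => m y) hs')⟩
  · obtain ⟨n, hn⟩ := exists_rho eG hG hex (s z) w
      ((congrArg (fun m : Y ⟶ P.left => m z) hs').trans hz)
    exact ⟨z, Set.mem_iUnion.2 ⟨n, by show (rho eG u n).left (s z) ∈ W; rw [hn]; exact hw⟩, hz⟩

theorem isClosedImmersion_u (hex : NonAbH1.IsExactSeq Scheme.fppfPrecoverage u v) :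
    IsClosedImmersion u.left := by
  haveI := hex.1
  haveI := hex.2.1
  have huv : u ≫ v = 1 := hex.2.2.1
  have hw : u ≫ v = toUnit G ≫ η[P] := huv.trans Hom.one_def
  have hsq : IsPullback u (toUnit G) v η[P] := by
    refine IsPullback.of_isLimit (PullbackCone.IsLimit.mk hw (fun c => ?_) (fun c => ?_)
      (fun c => toUnit_unique _ _) (fun c l hl₁ _ => ?_))
    · exact (ker_points hex 1 c.fst (by
        rw [MonObj.one_comp, c.condition, toUnit_unique c.snd (toUnit _), ← Hom.one_def])).choose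
    · have h := (ker_points hex 1 c.fst (by
        rw [MonObj.one_comp, c.condition, toUnit_unique c.snd (toUnit _), ← Hom.one_def])).choose_spec.1
      exact (h.trans (_root_.one_mul _)).symm
    · refine (ker_points hex 1 c.fst (by
        rw [MonObj.one_comp, c.condition, toUnit_unique c.snd (toUnit _), ← Hom.one_def])).choose_spec.2 l ?_
      show c.fst = 1 * (l ≫ u)
      rw [hl₁, _root_.one_mul]
  exact MorphismProperty.of_isPullback (P := @IsClosedImmersion)
    (hsq.map (Over.forget (Spec (CommRingCat.of k)))).flip (GrpSchField.unit_isClosedImmersion P)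

theorem unit_section (hZ : ∀ z : Z, IsOfFinOrder z → z = 1) (hG : TwC.IsConstGrp Z G eG)
    (hex : NonAbH1.IsExactSeq Scheme.fppfPrecoverage u v)
    {H : Over (Spec (CommRingCat.of k))} [GrpObj H] (j : H ⟶ E) [IsMonHom j] [IsOpenImmersion j.left]
    [CompactSpace H.left] {T : Over (Spec (CommRingCat.of k))} (g : T ⟶ G)
    (h : ∀ t, (g ≫ u).left t ∈ Set.range j.left) : g = 1 := by
  haveI := hex.1
  haveI := isClosedImmersion_u hex
  haveI : Mono j := (Over.forget _).mono_of_mono_map (inferInstanceAs (Mono j.left))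
  let S := Spec (CommRingCat.of k)
  let φ : Z →* (𝟙_ (Over S) ⟶ E) := MonoidHom.mk' (fun n => gp eG n ≫ u) fun m n => by
    simp only [gp]
    rw [← hG, MonObj.mul_comp]
  let ψ : (𝟙_ (Over S) ⟶ H) →* (𝟙_ (Over S) ⟶ E) :=
    MonoidHom.mk' (fun a => a ≫ j) fun a b => MonObj.mul_comp a b j
  let K₀ : Subgroup Z := ψ.range.comap φ
  haveI : Subsingleton ↥(𝟙_ (Over S)).left := inferInstanceAs (Subsingleton (Spec (CommRingCat.of k)))
  haveI : Nonempty ↥(𝟙_ (Over S)).left := inferInstanceAs (Nonempty (Spec (CommRingCat.of k)))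
  let U : Z → G.left.Opens := fun n => eG.hom.left ⁻¹ᵁ (Sigma.ι (fun _ : Z => S) n).opensRange
  obtain ⟨p⟩ := ‹Nonempty ↥(𝟙_ (Over S)).left›
  have hgpU : ∀ n, (gp eG n).left p ∈ U n := fun n => by
    show eG.hom.left ((gp eG n).left p) ∈ (Sigma.ι (fun _ : Z => S) n).opensRange
    have e : (gp eG n ≫ eG.hom).left p = (TwC.pt S Z n).left p := by simp [gp, S]
    exact e ▸ ⟨p, rfl⟩
  have hone : ∀ n (x : G.left), x ∈ U n → x = (gp eG n).left p := fun n x hx => by
    obtain ⟨y, hy⟩ := hx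
    have e : (gp eG n ≫ eG.hom).left p = (TwC.pt S Z n).left p := by simp [gp, S]
    have : eG.hom.left x = eG.hom.left ((gp eG n).left p) := by
      rw [← hy, ← Scheme.Hom.comp_apply, ← Over.comp_left, e]
      exact congrArg _ (Subsingleton.elim (α := Spec (CommRingCat.of k)) y p)
    haveI hiso : IsIso eG.hom.left := inferInstanceAs (IsIso ((Over.forget _).map eG.hom))
    exact eG.hom.left.isOpenEmbedding.injective ‹eG.hom.left x = eG.hom.left ((gp eG n).left p)›
  have hmem : ∀ n, n ∈ K₀ ↔ u.left ((gp eG n).left p) ∈ Set.range j.left := fun n => by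
    constructor
    · rintro ⟨a, ha⟩
      exact ⟨a.left p, congrArg (fun m : 𝟙_ (Over S) ⟶ E => m.left p) ha⟩
    · intro hn
      refine ⟨Over.homMk (IsOpenImmersion.lift j.left (gp eG n ≫ u).left ?_) ?_, Over.OverMorphism.ext
        (IsOpenImmersion.lift_fac _ _ _)⟩
      · rintro _ ⟨q, rfl⟩
        rw [Subsingleton.elim q p]
        exact hn
      · rw [← Over.w j, ← Category.assoc, IsOpenImmersion.lift_fac]
        exact Over.w (gp eG n ≫ u)
  have hcpt : IsCompact (u.left ⁻¹' Set.range j.left) :=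
    u.left.isClosedEmbedding.isCompact_preimage (isCompact_range j.left.continuous)
  obtain ⟨s, hs⟩ := hcpt.elim_finite_subcover (fun n => (U n : Set G.left)) (fun n => (U n).2)
    (fun x _ => Set.mem_iUnion.2 (by
      obtain ⟨n, y, hy⟩ := (sigmaOpenCover (fun _ : Z => S)).exists_eq (eG.hom.left x)
      exact ⟨n, y, hy⟩))
  have hfin : (K₀ : Set Z).Finite := s.finite_toSet.subset fun n hn => by
    obtain ⟨m, hm, hx⟩ := Set.mem_iUnion₂.1 (hs ((hmem n).1 hn))
    rwa [mem_piece_unique (hgpU n) hx]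
  haveI : Finite K₀ := hfin.to_subtype
  apply eq_one_of_mem eG hG
  intro t
  obtain ⟨n, y, hy⟩ := (sigmaOpenCover (fun _ : Z => S)).exists_eq ((g ≫ eG.hom).left t)
  have hx : g.left t = (gp eG n).left p := hone n _ ⟨y, hy⟩
  have hn : n ∈ K₀ := (hmem n).2 (hx ▸ h t)
  have := hZ n (Submonoid.isOfFinOrder_coe.2 (isOfFinOrder_of_finite (⟨n, hn⟩ : K₀)))
  subst this
  exact ⟨y, hy⟩

/-- The neutral component of a group scheme locally of finite type. -/
theorem exists_neutral (E : Over (Spec (CommRingCat.of k))) [GrpObj E] [LocallyOfFiniteType E.hom] :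
    ∃ (H : Over (Spec (CommRingCat.of k))) (_ : GrpObj H) (j : H ⟶ E), IsMonHom j ∧ IsOpenImmersion j.left ∧
      CompactSpace H.left ∧ IrreducibleSpace H.left ∧ LocallyOfFiniteType H.hom := by
  let S := Spec (CommRingCat.of k)
  let p : ↥(𝟙_ (Over S)).left := IsLocalRing.closedPoint k
  let e := η[E].left p
  have heq : SGA3x.neutralSet E = irreducibleComponent e := by
    rw [Induce27.neutralSet_eq E p, GrpSchField.connectedComponent_eq_irreducibleComponent]
  let U : E.left.Opens := ⟨SGA3x.neutralSet E, heq ▸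
    GrpSchField.isOpen_of_mem_irreducibleComponents E (irreducibleComponent_mem_irreducibleComponents e)⟩
  have hlft : ∀ s : S, LocallyOfFiniteType (E.hom.fiberToSpecResidueField s) :=
    fun s => MorphismProperty.pullback_snd _ _ inferInstance
  obtain ⟨inst, hi⟩ := Neutral.exists_grpObj_openPart E U (Neutral.unit_mem_neutralSet E)
    (fun q h₁ h₂ => Neutral.mul_mem_neutralSet E q (hlft _) h₁ h₂) (fun g hg => Neutral.inv_mem_neutralSet E hg)
  haveI hirr : IrreducibleSpace (Neutral.openPart E U).left := by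
    have h : IsIrreducible (U : Set E.left) := by
      show IsIrreducible (SGA3x.neutralSet E)
      rw [heq]
      exact isIrreducible_irreducibleComponent
    exact Subtype.irreducibleSpace h
  exact ⟨Neutral.openPart E U, inst, Neutral.openPartι E U, hi, inferInstanceAs (IsOpenImmersion U.ι),
    Homog14.compactSpace_of_irreducible _, hirr, inferInstanceAs (LocallyOfFiniteType (U.ι ≫ E.hom))⟩

/-- The total space is locally of finite type. -/
theorem lft_of_extension (hG : TwC.IsConstGrp Z G eG) (hex : NonAbH1.IsExactSeq Scheme.fppfPrecoverage u v)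
    [LocallyOfFiniteType P.hom] : LocallyOfFiniteType E.hom := by
  haveI := hex.1
  haveI := hex.2.1
  obtain ⟨R, hR, hsec⟩ := hex.2.2.2.2
  obtain ⟨hR1, hR2⟩ := hR
  have h1 : ∀ x : P.left, ∃ (Y : Scheme.{u}) (f : Y ⟶ P.left), R f ∧ ∃ z, f z = x := fun x => by
    obtain ⟨Y, f, hf, z, hz⟩ := (Presieve.mem_comap_jointlySurjectivePrecoverage_iff Scheme.forget).1 hR1 x
    exact ⟨Y, f, hf, z, hz⟩
  choose Y f hf z hz using h1
  choose σ hσ using fun x => hsec (f x) (hf x)
  let φ : (∐ Y) ⟶ P.left := Sigma.desc f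
  let s : (∐ Y) ⟶ E.left := Sigma.desc σ
  have hs : s ≫ v.left = φ := by
    apply Sigma.hom_ext
    intro x
    simp only [φ, s, Sigma.ι_desc_assoc, Sigma.ι_desc]
    exact hσ x
  let V : Over (Spec (CommRingCat.of k)) := Over.mk (φ ≫ P.hom)
  let φ' : V ⟶ P := Over.homMk φ
  let s' : V ⟶ E := Over.homMk s (by
    show s ≫ E.hom = φ ≫ P.hom
    rw [← hs, Category.assoc, Over.w v])
  have hs' : s' ≫ v = φ' := Over.OverMorphism.ext hs
  let top : V ⊗ G ⟶ E := (fst V G ≫ s') * (snd V G ≫ u)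
  have hw : top ≫ v = fst V G ≫ φ' := by
    rw [MonObj.mul_comp, Category.assoc, Category.assoc, hs', hex.2.2.1, MonObj.comp_one, _root_.mul_one]
  have hsq : IsPullback top (fst V G) v φ' := by
    refine IsPullback.of_isLimit (PullbackCone.IsLimit.mk hw
      (fun c => lift c.snd (ker_points hex (c.snd ≫ s') c.fst (by
        rw [Category.assoc, hs', c.condition])).choose) (fun c => ?_) (fun c => lift_fst _ _)
      (fun c l hl₁ hl₂ => ?_))
    · simp only [top, MonObj.comp_mul, lift_fst_assoc, lift_snd_assoc]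
      exact (ker_points hex (c.snd ≫ s') c.fst (by
        rw [Category.assoc, hs', c.condition])).choose_spec.1.symm
    · apply CartesianMonoidalCategory.hom_ext
      · rw [hl₂, lift_fst]
      · rw [lift_snd]
        refine (ker_points hex (c.snd ≫ s') c.fst (by
          rw [Category.assoc, hs', c.condition])).choose_spec.2 _ ?_
        show c.fst = (c.snd ≫ s') * ((l ≫ snd V G) ≫ u)
        rw [← hl₁, ← hl₂, MonObj.comp_mul]
        simp only [Category.assoc]
  have hGlft : LocallyOfFiniteType G.hom := by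
    haveI : Etale (TwC.const (Spec (CommRingCat.of k)) Z).hom := HomScheme.etale_const _ Z
    haveI : IsIso eG.hom.left := inferInstanceAs (IsIso ((Over.forget _).map eG.hom))
    rw [← Over.w eG.hom]
    infer_instance
  haveI : LocallyOfFiniteType (fst V G).left :=
    inferInstanceAs (LocallyOfFiniteType (pullback.fst V.hom G.hom))
  have hφ : (@Surjective ⊓ @Flat ⊓ @LocallyOfFinitePresentation : MorphismProperty Scheme.{u}) φ := by
    refine ⟨⟨⟨fun x => ⟨Sigma.ι Y x (z x), ?_⟩⟩, ?_⟩, ?_⟩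
    · rw [← Scheme.Hom.comp_apply, Sigma.ι_desc]
      exact hz x
    · rw [IsZariskiLocalAtSource.iff_of_openCover (P := @Flat) (sigmaOpenCover Y)]
      intro x
      show Flat (Sigma.ι Y x ≫ φ)
      rw [Sigma.ι_desc]
      exact (hR2 (hf x)).1
    · rw [IsZariskiLocalAtSource.iff_of_openCover (P := @LocallyOfFinitePresentation) (sigmaOpenCover Y)]
      intro x
      show LocallyOfFinitePresentation (Sigma.ι Y x ≫ φ)
      rw [Sigma.ι_desc]
      exact (hR2 (hf x)).2
  haveI : LocallyOfFiniteType v.left :=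
    MorphismProperty.of_isPullback_of_descendsAlong (P := @LocallyOfFiniteType)
      (Q := @Surjective ⊓ @Flat ⊓ @LocallyOfFinitePresentation)
      (hsq.map (Over.forget (Spec (CommRingCat.of k)))).flip hφ ‹LocallyOfFiniteType (fst V G).left›
  rw [← Over.w v]
  infer_instance

theorem splits (hZ : ∀ z : Z, IsOfFinOrder z → z = 1) (hG : TwC.IsConstGrp Z G eG)
    (hex : NonAbH1.IsExactSeq Scheme.fppfPrecoverage u v) [ConnectedSpace P.left] [LocallyOfFiniteType E.hom] :
    ∃ s : P ⟶ E, IsMonHom s ∧ s ≫ v = 𝟙 P := by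
  haveI := hex.1
  haveI := hex.2.1
  let S := Spec (CommRingCat.of k)
  obtain ⟨H, _, j, hj, hjo, hcpt, hirr, hlft⟩ := exists_neutral E
  haveI := hj
  haveI := hjo
  haveI := hcpt
  haveI : Mono j := (Over.forget _).mono_of_mono_map (inferInstanceAs (Mono j.left))
  -- surjectivity
  have hopen : IsOpen (Set.range (j ≫ v).left) := by
    rw [Over.comp_left, show Set.range (j.left ≫ v.left) = v.left '' Set.range j.left by
      rw [← Set.range_comp]; rfl]
    exact isOpen_image eG hG hex j.left.isOpenEmbedding.isOpen_range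
  have hclosed : IsClosed (Set.range (j ≫ v).left) :=
    GrpSchField.isClosed_range_of_isLocallyClosed (j ≫ v) hopen.isLocallyClosed
  have hsurj : ∀ y : P.left, y ∈ Set.range (j ≫ v).left := by
    intro y
    have hne : (Set.range (j ≫ v).left).Nonempty :=
      ⟨(j ≫ v).left (η[H].left (IsLocalRing.closedPoint k)), _, rfl⟩
    rw [IsClopen.eq_univ ⟨hclosed, hopen⟩ hne]
    trivial
  -- product decomposition
  let m : H ⊗ G ⟶ E := (fst H G ≫ j) * (snd H G ≫ u)
  have hm : ∀ {T : Over S} (a : T ⟶ H) (g : T ⟶ G), lift a g ≫ m = (a ≫ j) * (g ≫ u) := fun a g => by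
    simp [m, MonObj.comp_mul]
  have hker : ∀ {T : Over S} (a a' : T ⟶ H) (g g' : T ⟶ G),
      (a ≫ j) * (g ≫ u) = (a' ≫ j) * (g' ≫ u) → a = a' ∧ g = g' := fun a a' g g' e => by
    have e1 : (g * g'⁻¹) ≫ u = (a⁻¹ * a') ≫ j := by
      rw [MonObj.mul_comp, GrpObj.inv_comp, MonObj.mul_comp, GrpObj.inv_comp, mul_inv_eq_iff_eq_mul,
        _root_.mul_assoc, ← e]
      group
    have e2 : g * g'⁻¹ = 1 := unit_section eG hZ hG hex j _ fun t => by
      rw [e1]; exact ⟨_, rfl⟩
    rw [e2, MonObj.one_comp] at e1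
    have e3 : a⁻¹ * a' = 1 := by
      rw [← cancel_mono j, MonObj.one_comp]; exact e1.symm
    exact ⟨inv_mul_eq_one.1 e3, mul_inv_eq_one.1 e2⟩
  haveI : Mono m := ⟨fun {T} a b e => by
    rw [← lift_comp_fst_snd a, ← lift_comp_fst_snd b, hm, hm] at e
    obtain ⟨h1, h2⟩ := hker _ _ _ _ e
    exact CartesianMonoidalCategory.hom_ext _ _ h1 h2⟩
  let inc : Z → (H ⟶ H ⊗ G) := fun n => lift (𝟙 H) (toUnit H ≫ gp eG n)
  have hιm : ∀ n, inc n ≫ m = j ≫ rho eG u n := fun n => by
    rw [hm, Category.id_comp, rho_point]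
  have hιo : ∀ n, IsOpenImmersion (inc n).left := fun n => by
    have e : inc n = (ρ_ H).inv ≫ (H ◁ gp eG n) := by
      apply CartesianMonoidalCategory.hom_ext <;> simp [inc]
    haveI : IsIso (ρ_ H).inv.left := inferInstanceAs (IsIso ((Over.forget _).map (ρ_ H).inv))
    haveI : IsOpenImmersion (gp eG n).left := by
      haveI : IsIso eG.inv.left := inferInstanceAs (IsIso ((Over.forget _).map eG.inv))
      show IsOpenImmersion (Sigma.ι (fun _ : Z => S) n ≫ eG.inv.left)
      infer_instance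
    haveI : IsOpenImmersion (H ◁ gp eG n).left := by
      rw [Over.whiskerLeft_left]; infer_instance
    rw [e, Over.comp_left]
    infer_instance
  have hcov : ∀ q : ↥(H ⊗ G).left, ∃ n h, (inc n).left h = q := fun q => by
    let T : Over S := Over.mk ((H ⊗ G).left.fromSpecResidueField q ≫ (H ⊗ G).hom)
    let t : T ⟶ H ⊗ G := Over.homMk ((H ⊗ G).left.fromSpecResidueField q) rfl
    haveI : Subsingleton T.left := inferInstanceAs (Subsingleton (Spec ((H ⊗ G).left.residueField q)))
    haveI : Nonempty T.left := inferInstanceAs (Nonempty (Spec ((H ⊗ G).left.residueField q)))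
    obtain ⟨p⟩ := ‹Nonempty T.left›
    have htq : t.left p = q := Scheme.fromSpecResidueField_apply q p
    obtain ⟨n, hn⟩ := gp_index eG hG (t ≫ snd H G)
    refine ⟨n, (t ≫ fst H G).left p, ?_⟩
    have e : (t ≫ fst H G) ≫ inc n = t := by
      apply CartesianMonoidalCategory.hom_ext <;> simp [inc, hn]
    have := congrArg (fun z : T ⟶ H ⊗ G => z.left p) e
    exact this.trans htq
  have hsurjm : Function.Surjective m.left := fun x => by
    obtain ⟨h, hh⟩ := hsurj (v.left x)
    obtain ⟨n, hn⟩ := exists_rho eG hG hex (j.left h) x hh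
    refine ⟨(inc n).left h, ?_⟩
    rw [← hn]
    exact congrArg (fun z : H ⟶ E => z.left h) (hιm n)
  haveI : Mono m.left := inferInstanceAs (Mono ((Over.forget _).map m))
  haveI : IsOpenImmersion m.left := by
    haveI hcomp : ∀ n, IsOpenImmersion ((inc n).left ≫ m.left) := fun n => by
      haveI := rho_isOpenImmersion eG hG (u := u) n
      rw [← Over.comp_left, hιm, Over.comp_left]
      infer_instance
    have hinj : Function.Injective m.left := m.left.injective
    have hopenmap : IsOpenMap m.left := fun W hW => by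
      have : m.left '' W = ⋃ n, ((inc n).left ≫ m.left) '' ((inc n).left ⁻¹' W) := by
        ext x
        constructor
        · rintro ⟨q, hq, rfl⟩
          obtain ⟨n, h, rfl⟩ := hcov q
          exact Set.mem_iUnion.2 ⟨n, h, hq, rfl⟩
        · rintro hx
          obtain ⟨n, h, hh, rfl⟩ := Set.mem_iUnion.1 hx
          exact ⟨_, hh, rfl⟩
      rw [this]
      exact isOpen_iUnion fun n => ((inc n).left ≫ m.left).isOpenEmbedding.isOpenMap _
        (hW.preimage (inc n).left.continuous)
    haveI : ∀ q, IsIso (m.left.stalkMap q) := fun q => by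
      obtain ⟨n, h, rfl⟩ := hcov q
      haveI := hιo n
      haveI : IsIso (((inc n).left ≫ m.left).stalkMap h) := inferInstance
      rw [Scheme.Hom.stalkMap_comp] at this
      exact IsIso.of_isIso_comp_right _ ((inc n).left.stalkMap h)
    exact IsOpenImmersion.of_isIso_stalkMap _
      (Topology.IsOpenEmbedding.of_continuous_injective_isOpenMap m.left.continuous hinj hopenmap)
  haveI : Surjective m.left := ⟨hsurjm⟩
  haveI : IsIso m.left := (isIso_iff_isOpenImmersion_and_epi_base _).2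
    ⟨inferInstance, (TopCat.epi_iff_surjective _).2 hsurjm⟩
  haveI : IsIso ((Over.forget S).map m) := ‹IsIso m.left›
  haveI : IsIso m := isIso_of_reflects_iso m (Over.forget S)
  let r : E ⟶ H := inv m ≫ fst H G
  have hr : ∀ {T : Over S} (a : T ⟶ H) (g : T ⟶ G), ((a ≫ j) * (g ≫ u)) ≫ r = a := fun a g => by
    rw [← hm, Category.assoc]
    simp [r]
  have hdec : ∀ {T : Over S} (x : T ⟶ E), ∃ g : T ⟶ G, x = ((x ≫ r) ≫ j) * (g ≫ u) := fun x => by
    refine ⟨x ≫ inv m ≫ snd H G, ?_⟩
    rw [← hm]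
    have : lift (x ≫ r) (x ≫ inv m ≫ snd H G) = x ≫ inv m := by
      apply CartesianMonoidalCategory.hom_ext <;> simp [r]
    rw [this]; simp
  have hv : GrpExt.LocSplit v := GrpExt.locSplit_of_locallyTrivial v hex.2.2.2.2
  obtain ⟨s, hs, -⟩ := GrpExt.existsUnique_desc hv r (fun W a b e => by
    obtain ⟨g, hg, -⟩ := ker_points hex a b e
    obtain ⟨g', hg'⟩ := hdec a
    rw [show b = ((a ≫ r) ≫ j) * ((g' * g) ≫ u) by
      rw [MonObj.mul_comp, ← _root_.mul_assoc, ← hg']; exact hg, hr])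
  have hs' : v ≫ s = r := hs
  have hrjv : r ≫ j ≫ v = v := by
    obtain ⟨g, hg⟩ := hdec (𝟙 E)
    have := congrArg (fun z : E ⟶ E => z ≫ v) hg
    simp only [Category.id_comp, MonObj.mul_comp, Category.assoc, hex.2.2.1, MonObj.comp_one,
      _root_.mul_one] at this
    exact this.symm
  have hsec : s ≫ j ≫ v = 𝟙 P := GrpExt.cancel hv (by rw [← Category.assoc, hs', hrjv, Category.comp_id])
  haveI : Mono (j ≫ v) := ⟨fun {T} a b e => by
    obtain ⟨g, hg, -⟩ := ker_points hex (a ≫ j) (b ≫ j) (by simpa using e)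
    exact ((hker b a 1 g (by rw [MonObj.one_comp, _root_.mul_one]; exact hg)).1).symm⟩
  haveI : IsSplitEpi (j ≫ v) := ⟨⟨⟨s, hsec⟩⟩⟩
  haveI : IsIso (j ≫ v) := isIso_of_mono_of_isSplitEpi _
  have hsinv : s = inv (j ≫ v) := IsIso.eq_inv_of_inv_hom_id hsec
  haveI : Mono (j ≫ v) := inferInstance
  haveI : IsMonHom s :=
    { one_hom := by
        rw [← cancel_mono (j ≫ v), Category.assoc, hsec, Category.comp_id, IsMonHom.one_hom (f := j ≫ v)]
      mul_hom := by
        rw [← cancel_mono (j ≫ v), Category.assoc, hsec, Category.comp_id, Category.assoc,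
          IsMonHom.mul_hom (f := j ≫ v), tensorHom_comp_tensorHom_assoc, hsec, id_tensorHom_id,
          Category.id_comp] }
  exact ⟨s ≫ j, inferInstance, by rw [Category.assoc, hsec]⟩

/-- Automorphisms of such an extension are trivial. -/
theorem rigid_of_connected (hG : TwC.IsConstGrp Z G eG) (hex : NonAbH1.IsExactSeq Scheme.fppfPrecoverage u v)
    [ConnectedSpace P.left] (φ : E ⟶ E) [IsMonHom φ] (hφu : u ≫ φ = u) (hφv : φ ≫ v = v) : φ = 𝟙 E := by
  haveI := hex.1
  haveI := hex.2.1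
  have hv : GrpExt.LocSplit v := GrpExt.locSplit_of_locallyTrivial v hex.2.2.2.2
  have hmono : ∀ {W : Over (Spec (CommRingCat.of k))} (a b : W ⟶ G), a ≫ u = b ≫ u → a = b := fun a b e => by
    have hk := ker_points hex (1 : _ ⟶ E) (a ≫ u) (by
      rw [MonObj.one_comp, Category.assoc, hex.2.2.1, MonObj.comp_one])
    exact hk.unique (_root_.one_mul _).symm (by rw [_root_.one_mul]; exact e)
  obtain ⟨c, hc, -⟩ := ker_points hex (1 : E ⟶ E) (φ * (𝟙 E)⁻¹) (by
    rw [MonObj.one_comp, MonObj.mul_comp, GrpObj.inv_comp, hφv, Category.id_comp, mul_inv_cancel])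
  have hc' : c ≫ u = φ * (𝟙 E)⁻¹ := ((_root_.one_mul _).symm.trans hc.symm)
  have hd : ∀ {T : Over (Spec (CommRingCat.of k))} (x : T ⟶ E), (x ≫ c) ≫ u = (x ≫ φ) * x⁻¹ := fun x => by
    rw [Category.assoc, hc', MonObj.comp_mul, GrpObj.comp_inv, Category.comp_id]
  obtain ⟨f, hf, -⟩ := GrpExt.existsUnique_desc hv c (fun W a b e => by
    apply hmono
    obtain ⟨g, hg, -⟩ := ker_points hex a b e
    have hg' : b = a * (g ≫ u) := hg
    rw [hd, hd, hg', MonObj.mul_comp, Category.assoc, hφu]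
    group)
  have hf' : v ≫ f = c := hf
  have h1 : (1 : 𝟙_ (Over (Spec (CommRingCat.of k))) ⟶ P) ≫ f = 1 := by
    apply hmono
    rw [← MonObj.one_comp v, Category.assoc _ v, hf', hd, MonObj.one_comp, MonObj.one_comp,
      mul_inv_cancel]
  have hf1 : f = 1 := by
    apply eq_one_of_mem eG hG
    let S := Spec (CommRingCat.of k)
    let p : ↥(𝟙_ (Over S)).left := IsLocalRing.closedPoint k
    refine fun t => eq_of_preconnected (f ≫ eG.hom).left 1
      ((1 : 𝟙_ (Over S) ⟶ P).left p) ?_ t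
    have e := gp_one G eG hG
    have e2 : ((1 : 𝟙_ (Over S) ⟶ P) ≫ f) ≫ eG.hom = TwC.pt S Z 1 := by
      rw [h1, ← e]
      simp [S]
    exact ⟨p, (congrArg (fun m : 𝟙_ (Over S) ⟶ TwC.const S Z => m.left p) e2).symm⟩
  have : φ * (𝟙 E)⁻¹ = 1 := by rw [← hc', ← hf', hf1, MonObj.comp_one, MonObj.one_comp]
  exact mul_inv_eq_one.1 this

end Field

end GrothLib.GrpExt19
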