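import Groth.Agent.Lib.GrpExt.Central

/-!
Bi-equivariant maps between extensions are homomorphisms when maps trivial on the axes are trivial.
-/

set_option backward.isDefEq.respectTransparency false
set_option linter.style.haveILetI false

universe u

open CategoryTheory CategoryTheory.Limits MonoidalCategory CartesianMonoidalCategory AlgebraicGeometry
open scoped MonObj

namespace GrothLib.GrpExt19

variable {S : Scheme.{u}} {P G E E' : Over S} [GrpObj P] [GrpObj G] [GrpObj E] [GrpObj E'] [IsCommMonObj G]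

theorem isMonHom_of_biequivariant (u : G ⟶ E) (v : E ⟶ P) (hex : NonAbH1.IsExactSeq Scheme.fppfPrecoverage u v)
    (u' : G ⟶ E') (v' : E' ⟶ P) (hex' : NonAbH1.IsExactSeq Scheme.fppfPrecoverage u' v')
    (hPP : ∀ c : P ⊗ P ⟶ G, lift (𝟙 P) (toUnit P ≫ η[P]) ≫ c = 1 → lift (toUnit P ≫ η[P]) (𝟙 P) ≫ c = 1 → c = 1)
    (f : E ⟶ E') (hv : f ≫ v' = v) (h1 : η[E] ≫ f = η[E'])
    (hl : ∀ (T : Over S) (g : T ⟶ G) (x : T ⟶ E), ((g ≫ u) * x) ≫ f = (g ≫ u') * (x ≫ f))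
    (hr : ∀ (T : Over S) (g : T ⟶ G) (x : T ⟶ E), (x * (g ≫ u)) ≫ f = (x ≫ f) * (g ≫ u')) :
    IsMonHom f := by
  haveI := hex.1
  haveI := hex.2.1
  haveI := hex'.1
  haveI := hex'.2.1
  have huv : u ≫ v = 1 := hex.2.2.1
  have huv' : u' ≫ v' = 1 := hex'.2.2.1
  have hs : GrpExt.LocSplit v := GrpExt.locSplit_of_locallyTrivial v hex.2.2.2.2
  have hf1 : ∀ {W : Over S}, (1 : W ⟶ E) ≫ f = 1 := fun {W} => by
    rw [Hom.one_def, Category.assoc, h1, Hom.one_def]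
  have hmono : ∀ {W : Over S} (a b : W ⟶ G), a ≫ u' = b ≫ u' → a = b := fun a b e =>
    (GrpExt.points_ker u' v' hex' (a ≫ u') (by rw [Category.assoc, huv', MonObj.comp_one])).unique rfl e.symm
  let c : E ⊗ E ⟶ E' := (fst E E * snd E E) ≫ f * ((fst E E ≫ f) * (snd E E ≫ f))⁻¹
  have hc : ∀ {W : Over S} (x y : W ⟶ E), lift x y ≫ c = (x * y) ≫ f * ((x ≫ f) * (y ≫ f))⁻¹ := fun x y => by
    simp only [c, MonObj.comp_mul, GrpObj.comp_inv, lift_fst_assoc, lift_snd_assoc]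
    rw [← Category.assoc (lift x y), MonObj.comp_mul, lift_fst, lift_snd]
  have hcv : c ≫ v' = 1 := by
    simp only [c, MonObj.mul_comp, GrpObj.inv_comp, Category.assoc, hv, mul_inv_cancel]
  obtain ⟨c₀, hc₀, -⟩ := GrpExt.points_ker u' v' hex' c hcv
  have hc₀' : c₀ ≫ u' = c := hc₀
  have hinv : ∀ (W : Over S) (a b : W ⟶ E ⊗ E), a ≫ (v ⊗ₘ v) = b ≫ (v ⊗ₘ v) → a ≫ c₀ = b ≫ c₀ := by
    intro W a b e
    apply hmono
    rw [Category.assoc, Category.assoc, hc₀']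
    obtain ⟨a₁, a₂, rfl⟩ : ∃ a₁ a₂, a = lift a₁ a₂ :=
      ⟨a ≫ fst _ _, a ≫ snd _ _, by apply CartesianMonoidalCategory.hom_ext <;> simp⟩
    obtain ⟨b₁, b₂, rfl⟩ : ∃ b₁ b₂, b = lift b₁ b₂ :=
      ⟨b ≫ fst _ _, b ≫ snd _ _, by apply CartesianMonoidalCategory.hom_ext <;> simp⟩
    have e₁ : a₁ ≫ v = b₁ ≫ v := by simpa using congrArg (· ≫ fst _ _) e
    have e₂ : a₂ ≫ v = b₂ ≫ v := by simpa using congrArg (· ≫ snd _ _) e
    obtain ⟨g, rfl⟩ := GrpExt.exists_translate u v hex a₁ b₁ e₁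
    obtain ⟨g', rfl⟩ := GrpExt.exists_translate u v hex a₂ b₂ e₂
    obtain ⟨k, hk, -⟩ := GrpExt.points_ker u v hex (a₂⁻¹ * (g ≫ u) * a₂) (by
      rw [MonObj.mul_comp, MonObj.mul_comp, GrpObj.inv_comp, Category.assoc, huv, MonObj.comp_one]
      group)
    have hk' : k ≫ u = a₂⁻¹ * (g ≫ u) * a₂ := hk
    have hswap : (g ≫ u) * a₂ = a₂ * (k ≫ u) := by rw [hk']; group
    have hswap' : (g ≫ u') * (a₂ ≫ f) = (a₂ ≫ f) * (k ≫ u') := by
      rw [← hl, hswap, hr]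
    have hL : (a₁ * (g ≫ u) * (a₂ * (g' ≫ u))) ≫ f = (a₁ * a₂) ≫ f * (k * g') ≫ u' := by
      rw [← hr, MonObj.mul_comp k g' u]
      congr 1
      rw [show a₁ * (g ≫ u) * (a₂ * (g' ≫ u)) = a₁ * ((g ≫ u) * a₂) * (g' ≫ u) by group, hswap]
      group
    have hR : (a₁ * (g ≫ u)) ≫ f * (a₂ * (g' ≫ u)) ≫ f = (a₁ ≫ f * a₂ ≫ f) * (k * g') ≫ u' := by
      rw [hr, hr, MonObj.mul_comp,
        show (a₁ ≫ f) * (g ≫ u') * ((a₂ ≫ f) * (g' ≫ u')) =
          (a₁ ≫ f) * ((g ≫ u') * (a₂ ≫ f)) * (g' ≫ u') by group, hswap']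
      group
    rw [hc, hc, hL, hR, mul_inv_rev (_ * _), ← mul_assoc, mul_inv_cancel_right]
  obtain ⟨d, hd, -⟩ := GrpExt.existsUnique_desc (GrpExt.locSplit_tensor hs hs) c₀ hinv
  have hd' : (v ⊗ₘ v) ≫ d = c₀ := hd
  have hd1 : d = 1 := by
    refine hPP d ?_ ?_
    · apply GrpExt.cancel hs
      apply hmono
      have e : v ≫ lift (𝟙 P) (toUnit P ≫ η[P]) = lift (𝟙 E) (1 : E ⟶ E) ≫ (v ⊗ₘ v) := by
        apply CartesianMonoidalCategory.hom_ext <;> simp [← Hom.one_def, MonObj.one_comp, MonObj.comp_one]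
      rw [MonObj.comp_one, ← Category.assoc v, e]
      simp only [Category.assoc, MonObj.one_comp]
      rw [← Category.assoc (v ⊗ₘ v), hd', hc₀', hc, hf1]
      group
    · apply GrpExt.cancel hs
      apply hmono
      have e : v ≫ lift (toUnit P ≫ η[P]) (𝟙 P) = lift (1 : E ⟶ E) (𝟙 E) ≫ (v ⊗ₘ v) := by
        apply CartesianMonoidalCategory.hom_ext <;> simp [← Hom.one_def, MonObj.one_comp, MonObj.comp_one]
      rw [MonObj.comp_one, ← Category.assoc v, e]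
      simp only [Category.assoc, MonObj.one_comp]
      rw [← Category.assoc (v ⊗ₘ v), hd', hc₀', hc, hf1]
      group
  have hc1 : c = 1 := by rw [← hc₀', ← hd', hd1, MonObj.comp_one, MonObj.one_comp]
  refine ⟨h1, ?_⟩
  have h := mul_inv_eq_one.1 hc1
  simp only [MonObj.mul_eq_mul, h, MonObj.comp_mul, tensorHom_fst, tensorHom_snd]

end GrothLib.GrpExt19
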