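import Groth.Prelude.Def_NonAbH2
import Groth.Prelude.Def_TwC
import Groth.Agent.Lib.GrpExt.Central
import Groth.Agent.Lib.HomScheme.Const
import Groth.Agent.Lib.AbTors.Descend
import Mathlib.AlgebraicGeometry.Morphisms.FiniteType
import Mathlib.FieldTheory.IsAlgClosed.AlgebraicClosure

/-!
Extensions of a group scheme of finite type by a torsion free constant group are rigid.
-/

set_option backward.isDefEq.respectTransparency false
set_option linter.style.haveILetI false

universe u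

open CategoryTheory CategoryTheory.Limits MonoidalCategory CartesianMonoidalCategory AlgebraicGeometry
open scoped MonObj

namespace GrothLib.GrpExt19

section Const

variable {S : Scheme.{u}} {Z : Type u}

theorem toUnit_pt_left (T : Over S) (m : Z) :
    (toUnit T ≫ TwC.pt S Z m).left = T.hom ≫ Sigma.ι (fun _ : Z => S) m := by
  simp [TwC.pt]

theorem existsUnique_index {T : Over S} [Subsingleton T.left] [Nonempty T.left] (g : T ⟶ TwC.const S Z) :
    ∃! m, g = toUnit T ≫ TwC.pt S Z m := by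
  obtain ⟨t⟩ := ‹Nonempty T.left›
  obtain ⟨m, y, hy⟩ := (sigmaOpenCover (fun _ : Z => S)).exists_eq (g.left t)
  refine ⟨m, Over.OverMorphism.ext ?_, fun n hn => ?_⟩
  · have h := HomScheme.eq_of_mem_piece S Z g.left m fun s => ⟨y, by rw [Subsingleton.elim s t]; exact hy⟩
    rw [toUnit_pt_left]
    exact h.trans (congrArg (fun q => q ≫ Sigma.ι (fun _ : Z => S) m) (Over.w g))
  · by_contra hne
    have hn' : g.left = T.hom ≫ Sigma.ι (fun _ : Z => S) n := by rw [hn, toUnit_pt_left]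
    refine (disjoint_opensRange_sigmaι (fun _ : Z => S) n m hne).le_bot (x := g.left t) ⟨?_, ⟨y, hy⟩⟩
    refine ⟨T.hom t, ?_⟩
    rw [hn']
    rfl

theorem gp_one [Group Z] (G : Over S) [GrpObj G] (eG : G ≅ TwC.const S Z)
    (hG : TwC.IsConstGrp Z G eG) : TwC.pt S Z 1 ≫ eG.inv = (1 : 𝟙_ (Over S) ⟶ G) := by
  have := hG 1 1
  rw [mul_one] at this
  exact mul_eq_left.1 this

end Const

section Trivial

theorem exists_pt_over {K Ω : Type u} [Field K] [Field Ω] [IsAlgClosed Ω]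
    (σ : Spec (CommRingCat.of Ω) ⟶ Spec (CommRingCat.of K)) {X : Over (Spec (CommRingCat.of K))}
    [LocallyOfFiniteType X.hom] (x : X.left) (hx : IsClosed ({x} : Set X.left)) :
    ∃ t : Over.mk σ ⟶ X, ∀ p, t.left p = x := by
  obtain ⟨ι', t, ht⟩ := AbTors.exists_geomPt σ x hx
  refine ⟨t, fun p => ?_⟩
  rw [ht]
  exact (Scheme.Hom.comp_apply _ _ p).trans (Scheme.fromSpecResidueField_apply x _)

variable {k : Type u} [Field k] {Z : Type u} [CommGroup Z] {P G : Over (Spec (CommRingCat.of k))}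
  [GrpObj P] [GrpObj G] [LocallyOfFiniteType P.hom] [QuasiCompact P.hom]

/-- Homomorphisms of a group scheme of finite type to a torsion free constant group are trivial. -/
theorem hom_eq_one (hZ : ∀ z : Z, IsOfFinOrder z → z = 1) (eG : G ≅ TwC.const (Spec (CommRingCat.of k)) Z)
    (hG : TwC.IsConstGrp Z G eG) (f : P ⟶ G) [IsMonHom f] : f = 1 := by
  let S := Spec (CommRingCat.of k)
  let Ω := AlgebraicClosure k
  let σ : Spec (CommRingCat.of Ω) ⟶ S := Spec.map (CommRingCat.ofHom (algebraMap k Ω))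
  let T : Over S := Over.mk σ
  haveI : Subsingleton T.left := inferInstanceAs (Subsingleton (Spec (CommRingCat.of Ω)))
  haveI : Nonempty T.left := inferInstanceAs (Nonempty (Spec (CommRingCat.of Ω)))
  haveI : CompactSpace S := inferInstance
  haveI : CompactSpace P.left := QuasiCompact.compactSpace_of_compactSpace P.hom
  haveI : JacobsonSpace P.left := LocallyOfFiniteType.jacobsonSpace P.hom
  let a : P.left ⟶ (TwC.const S Z).left := (f ≫ eG.hom).left
  let U : Z → P.left.Opens := fun m => a ⁻¹ᵁ (Sigma.ι (fun _ : Z => S) m).opensRange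
  have hU : ∀ x, ∃ m, x ∈ U m := fun x => by
    obtain ⟨m, y, hy⟩ := (sigmaOpenCover (fun _ : Z => S)).exists_eq (a x)
    exact ⟨m, y, hy⟩
  obtain ⟨s, hs⟩ := isCompact_univ.elim_finite_subcover (fun m => ((U m : P.left.Opens) : Set P.left))
    (fun m => (U m).2) (fun x _ => Set.mem_iUnion.2 (hU x))
  choose θ hθ hθu using fun t : T ⟶ P => existsUnique_index (t ≫ f ≫ eG.hom)
  have hθ' : ∀ t : T ⟶ P, t ≫ f = toUnit T ≫ TwC.pt S Z (θ t) ≫ eG.inv := fun t => by
    rw [← Category.assoc (toUnit T), ← hθ t]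
    simp
  have hmul : ∀ t t' : T ⟶ P, θ (t * t') = θ t * θ t' := fun t t' => by
    refine (hθu (t * t') (θ t * θ t') ?_).symm
    show (t * t') ≫ f ≫ eG.hom = _
    rw [← Category.assoc, MonObj.mul_comp, hθ', hθ', ← MonObj.comp_mul, hG]
    simp
    rfl
  let Θ : (T ⟶ P) →* Z := MonoidHom.mk' θ hmul
  have hmem : ∀ (t : T ⟶ P) (p : T.left), t.left p ∈ U (θ t) := fun t p => by
    show a (t.left p) ∈ (Sigma.ι (fun _ : Z => S) (θ t)).opensRange
    have e : (t ≫ f ≫ eG.hom).left p = (toUnit T ≫ TwC.pt S Z (θ t)).left p := by rw [← hθ t]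
    rw [toUnit_pt_left] at e
    exact ⟨T.hom p, (Eq.trans (by rfl) e.symm)⟩
  have hdisj : ∀ (x : P.left) (m n : Z), x ∈ U m → x ∈ U n → m = n := fun x m n h₁ h₂ => by
    by_contra hne
    exact (disjoint_opensRange_sigmaι (fun _ : Z => S) m n hne).le_bot (x := a x) ⟨h₁, h₂⟩
  have hfin : (Set.range Θ).Finite := by
    refine (s : Finset Z).finite_toSet.subset ?_
    rintro _ ⟨t, rfl⟩
    obtain ⟨p⟩ := ‹Nonempty T.left›
    obtain ⟨m, hm, hx⟩ := Set.mem_iUnion₂.1 (hs (Set.mem_univ (t.left p)))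
    rw [show Θ t = m from hdisj _ _ _ (hmem t p) hx]
    exact hm
  have htriv : ∀ t, θ t = 1 := fun t => by
    refine hZ _ ?_
    haveI : Finite Θ.range := by
      have : Finite (Set.range Θ) := hfin.to_subtype
      exact this
    exact Submonoid.isOfFinOrder_coe.2 (isOfFinOrder_of_finite (⟨Θ t, t, rfl⟩ : Θ.range))
  have hone : ∀ x, x ∈ U 1 := by
    intro x
    obtain ⟨m, hm⟩ := hU x
    obtain ⟨y, hy, hyc⟩ := nonempty_inter_closedPoints ⟨x, hm⟩ (U m).2.isLocallyClosed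
    obtain ⟨t, ht⟩ := exists_pt_over σ y hyc
    obtain ⟨p⟩ := ‹Nonempty T.left›
    have e : t.left p = y := ht p
    have h1 := hmem t p
    rw [htriv t, e] at h1
    rwa [hdisj y m 1 hy h1] at hm
  have h := HomScheme.eq_of_mem_piece S Z a 1 hone
  have e : f ≫ eG.hom = toUnit P ≫ TwC.pt S Z 1 := by
    apply Over.OverMorphism.ext
    rw [toUnit_pt_left]
    exact h.trans (congrArg (fun q => q ≫ Sigma.ι (fun _ : Z => S) (1 : Z)) (Over.w (f ≫ eG.hom)))
  rw [← cancel_mono eG.hom, e, Hom.one_def]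
  have h1 := gp_one G eG hG
  rw [Hom.one_def, toUnit_unique (toUnit (𝟙_ (Over S))) (𝟙 _), Category.id_comp] at h1
  rw [← h1]
  simp
  rfl

end Trivial

section Rigid

variable {k : Type u} [Field k] {Z : Type u} [CommGroup Z] {P E G : Over (Spec (CommRingCat.of k))}
  [GrpObj P] [GrpObj E] [GrpObj G] [IsCommMonObj E]
  [LocallyOfFiniteType P.hom] [QuasiCompact P.hom] {u : G ⟶ E} {v : E ⟶ P}

omit [LocallyOfFiniteType P.hom] [QuasiCompact P.hom] in
theorem existsUnique_ker (hex : NonAbH1.IsExactSeq Scheme.fppfPrecoverage u v)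
    {T : Over (Spec (CommRingCat.of k))} (y : T ⟶ E) (hy : y ≫ v = 1) : ∃! g : T ⟶ G, g ≫ u = y := by
  obtain ⟨hu, hv, huv, hsq, -⟩ := hex
  haveI := hu
  haveI := hv
  have e : (1 : T ⟶ E) ≫ v = y ≫ v := by rw [MonObj.one_comp, hy]
  have hl : ∀ g : T ⟶ G, lift (1 : T ⟶ E) g ≫ (E ◁ u) ≫ μ[E] = g ≫ u := fun g => by
    rw [lift_whiskerLeft_assoc, ← Hom.mul_def, _root_.one_mul]
  obtain ⟨l, hl₁, hl₂⟩ : ∃ l : T ⟶ E ⊗ G, l ≫ fst E G = 1 ∧ l ≫ (E ◁ u) ≫ μ[E] = y :=
    ⟨hsq.lift 1 y e, hsq.lift_fst _ _ _, hsq.lift_snd _ _ _⟩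
  have hl' : l = lift 1 (l ≫ snd E G) := by
    apply CartesianMonoidalCategory.hom_ext <;> simp [hl₁]
  refine ⟨l ≫ snd E G, ?_, fun g hg => ?_⟩
  · show (l ≫ snd E G) ≫ u = y
    rw [← hl (l ≫ snd E G), ← hl', hl₂]
  · have : lift (1 : T ⟶ E) g = l := by
      apply hsq.hom_ext
      · rw [hl₁, lift_fst]
      · rw [hl₂, hl, hg]
    rw [← this, lift_snd]

theorem rigid (hZ : ∀ z : Z, IsOfFinOrder z → z = 1) (eG : G ≅ TwC.const (Spec (CommRingCat.of k)) Z)
    (hG : TwC.IsConstGrp Z G eG) (hex : NonAbH1.IsExactSeq Scheme.fppfPrecoverage u v)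
    (φ : E ⟶ E) [IsMonHom φ] (hφu : u ≫ φ = u) (hφv : φ ≫ v = v) : φ = 𝟙 E := by
  haveI := hex.1
  haveI := hex.2.1
  have huv : u ≫ v = 1 := hex.2.2.1
  have hv : GrpExt.LocSplit v := GrpExt.locSplit_of_locallyTrivial v hex.2.2.2.2
  let d : E ⟶ E := φ * (𝟙 E)⁻¹
  have hd : ∀ {T : Over (Spec (CommRingCat.of k))} (x : T ⟶ E), x ≫ d = (x ≫ φ) * x⁻¹ := fun x => by
    simp only [d, MonObj.comp_mul, GrpObj.comp_inv, Category.comp_id]
  have hdmul : ∀ {T : Over (Spec (CommRingCat.of k))} (x y : T ⟶ E), (x * y) ≫ d = (x ≫ d) * (y ≫ d) :=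
    fun x y => by
    rw [hd, hd, hd, MonObj.mul_comp, mul_inv, mul_mul_mul_comm]
  obtain ⟨c, hc, -⟩ := existsUnique_ker hex d (by
    simp only [d, MonObj.mul_comp, GrpObj.inv_comp, hφv, Category.id_comp, mul_inv_cancel])
  have hc' : c ≫ u = d := hc
  have hdd : d = φ * (𝟙 E)⁻¹ := rfl
  clear_value d
  have hmono : ∀ {W : Over (Spec (CommRingCat.of k))} (a b : W ⟶ G), a ≫ u = b ≫ u → a = b := fun a b e =>
    (existsUnique_ker hex (a ≫ u) (by rw [Category.assoc, huv, MonObj.comp_one])).unique rfl e.symm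
  obtain ⟨f, hf, -⟩ := GrpExt.existsUnique_desc hv c (fun W a b e => by
    apply hmono
    rw [Category.assoc, Category.assoc, hc']
    obtain ⟨g, hg, -⟩ := existsUnique_ker hex (a⁻¹ * b) (by
      rw [MonObj.mul_comp, GrpObj.inv_comp, e, inv_mul_cancel])
    have hg' : g ≫ u = a⁻¹ * b := hg
    have hb : b = a * (g ≫ u) := by rw [hg', mul_inv_cancel_left]
    rw [hb, hdmul, hd (g ≫ u), Category.assoc, hφu, mul_inv_cancel, _root_.mul_one])
  have hf' : v ≫ f = c := hf
  have hfmul : ∀ {T : Over (Spec (CommRingCat.of k))} (x y : T ⟶ P), (x * y) ≫ f = (x ≫ f) * (y ≫ f) := by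
    intro T x y
    have key : μ[P] ≫ f = (f ⊗ₘ f) ≫ μ[G] := by
      apply GrpExt.cancel (GrpExt.locSplit_tensor hv hv)
      rw [← IsMonHom.mul_hom_assoc v, hf', tensorHom_comp_tensorHom_assoc, hf']
      apply hmono
      simp only [Category.assoc]
      rw [hc', IsMonHom.mul_hom u, tensorHom_comp_tensorHom_assoc, hc', MonObj.mul_eq_mul, hdmul,
        MonObj.comp_mul, tensorHom_fst, tensorHom_snd]
    rw [Hom.mul_def, Hom.mul_def, Category.assoc, key, lift_map_assoc]
  haveI : IsMonHom f :=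
    { one_hom := by
        have h := hfmul (T := 𝟙_ _) (1 : 𝟙_ _ ⟶ P) 1
        rw [_root_.one_mul] at h
        have h' := right_eq_mul.1 h
        rwa [Hom.one_def, Hom.one_def, toUnit_unique (toUnit (𝟙_ _)) (𝟙 _), Category.id_comp,
          Category.id_comp] at h'
      mul_hom := by
        have h := hfmul (fst P P) (snd P P)
        rw [MonObj.mul_eq_mul]
        rw [Hom.mul_def (fst P P ≫ f)] at h
        rw [← lift_fst_comp_snd_comp]
        exact h }
  have hd1 : d = 1 := by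
    rw [← hc', ← hf', hom_eq_one hZ eG hG f, MonObj.comp_one, MonObj.one_comp]
  exact eq_of_div_eq_one (by rw [div_eq_mul_inv, ← hdd]; exact hd1)

end Rigid

end GrothLib.GrpExt19
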